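import Cfsg.Agent.Lib.Zass25.AutQEight
import Cfsg.Agent.Lib.Fusion87.QuaternionSL2
import Cfsg.Agent.Lib.TwoRankInter.Main

/-!
Commuting automorphisms of odd order of a 2-group with at most one involution.
-/

set_option autoImplicit false

namespace Cfsg.Agent.Lib.UniqueInvFix

open QuaternionGroup
open scoped commutatorElement

/-- What a nontrivial automorphism of odd order forces on a 2-group with one involution. -/
structure IsQEightAct {Q : Type*} [Group Q] (σ : MulAut Q) : Prop where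
  card : Nat.card Q = 8
  cube : σ ^ 3 = 1
  fix : ∀ x : Q, σ x = x → x ^ 2 = 1
  orbit : ∀ x : Q, x * σ x * σ (σ x) ∈ Subgroup.center Q
  comm : ∀ x : Q, Commute x (σ x) → x ^ 2 = 1
  cover : ∀ x y : Q, x ^ 2 ≠ 1 → ∃ c : Q, c ^ 2 = 1 ∧
    (y = c ∨ y = c * x ∨ y = c * σ x ∨ y = c * σ (σ x))
  sq : ∀ x : Q, (x ^ 2) ^ 2 = 1
  commutator : ∀ x y : Q, ⁅x, y⁆ ^ 2 = 1
  noncomm : ∃ x : Q, ¬ Commute x (σ x)

local notation "Q8" => QuaternionGroup 2

theorem pair_facts : ∀ q ∈ Zass25.qPairs,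
    (Zass25.qMap q.1 q.2)^[3] (a 1) = a 1 ∧ (Zass25.qMap q.1 q.2)^[3] (xa 0) = xa 0 →
    q ≠ (a 1, xa 0) →
    (∀ x : Q8, Zass25.qMap q.1 q.2 x = x → x * x = 1) ∧
    (∀ x y : Q8, (x * Zass25.qMap q.1 q.2 x * Zass25.qMap q.1 q.2 (Zass25.qMap q.1 q.2 x)) * y =
      y * (x * Zass25.qMap q.1 q.2 x * Zass25.qMap q.1 q.2 (Zass25.qMap q.1 q.2 x))) ∧
    (∀ x : Q8, x * Zass25.qMap q.1 q.2 x = Zass25.qMap q.1 q.2 x * x → x * x = 1) ∧
    (∀ x y : Q8, x * x ≠ 1 → ∃ c : Q8, c * c = 1 ∧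
      (y = c ∨ y = c * x ∨ y = c * Zass25.qMap q.1 q.2 x ∨
        y = c * Zass25.qMap q.1 q.2 (Zass25.qMap q.1 q.2 x))) := by
  decide +kernel

theorem group_facts :
    (∀ x : Q8, (x * x) * (x * x) = 1) ∧
    (∀ x y : Q8, (x * y * x⁻¹ * y⁻¹) * (x * y * x⁻¹ * y⁻¹) = 1) ∧
    ((a 1 : Q8) * a 1 ≠ 1) := by
  decide +kernel

theorem isQEightAct_quaternion (σ : MulAut Q8) (h3 : σ ^ 3 = 1) (hne : σ ≠ 1) :
    IsQEightAct σ := by
  have hq := Zass25.qPair_mem σ
  have hco := Zass25.apply_eq_qMap σ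
  have h := pair_facts _ hq ⟨by
      show (Zass25.qMap (σ (a 1)) (σ (xa 0)))^[3] (a 1) = a 1
      rw [← Zass25.coe_pow_iterate, h3]; rfl, by
      show (Zass25.qMap (σ (a 1)) (σ (xa 0)))^[3] (xa 0) = xa 0
      rw [← Zass25.coe_pow_iterate, h3]; rfl⟩ fun e => hne (Zass25.qPair_injective e)
  simp only [Zass25.qPair, ← hco] at h
  obtain ⟨hfix, horb, hcm, hcov⟩ := h
  obtain ⟨hsq, hcc, ha1⟩ := group_facts
  refine ⟨by rw [Nat.card_eq_fintype_card, QuaternionGroup.card], h3,
    fun x hx => by rw [sq]; exact hfix x hx,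
    fun x => Subgroup.mem_center_iff.2 fun y => (horb x y).symm,
    fun x hx => by rw [sq]; exact hcm x hx.eq, fun x y hx => ?_,
    fun x => by rw [sq, sq]; exact hsq x, fun x y => by rw [commutatorElement_def, sq]; exact hcc x y,
    ⟨a 1, fun hc => ha1 (hcm _ hc.eq)⟩⟩
  obtain ⟨c, hc, hy⟩ := hcov x y (by rw [← sq]; exact hx)
  exact ⟨c, by rw [sq]; exact hc, hy⟩

theorem IsQEightAct.of_equiv {Q R : Type*} [Group Q] [Group R] (e : Q ≃* R) {σ : MulAut Q}
    (h : IsQEightAct (MulAut.congr e σ)) : IsQEightAct σ := by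
  have hap : ∀ x, MulAut.congr e σ (e x) = e (σ x) := fun x => by simp [MulAut.congr]
  have hpow1 : ∀ x : Q, (e x) ^ 2 = 1 → x ^ 2 = 1 := fun x hx => e.injective (by
    rw [map_pow, hx, map_one])
  refine ⟨(Nat.card_congr e.toEquiv).trans h.card, ?_, fun x hx => hpow1 x (h.fix _ (by
    rw [hap, hx])), fun x => ?_, fun x hx => hpow1 x (h.comm _ (by
    rw [hap]; exact hx.map e)), fun x y hx => ?_, fun x => ?_, fun x y => ?_, ?_⟩
  · refine (MulAut.congr e).injective ?_
    rw [map_pow, h.cube, map_one]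
  · refine Subgroup.mem_center_iff.2 fun y => e.injective ?_
    have := Subgroup.mem_center_iff.1 (h.orbit (e x)) (e y)
    simpa only [map_mul, hap] using this
  · obtain ⟨c, hc, hy⟩ := h.cover (e x) (e y) (fun h' => hx (hpow1 x h'))
    refine ⟨e.symm c, by rw [← map_pow, hc, map_one], ?_⟩
    rcases hy with hy | hy | hy | hy
    · exact .inl (e.injective (by rw [hy, MulEquiv.apply_symm_apply]))
    · exact .inr (.inl (e.injective (by rw [hy, map_mul, MulEquiv.apply_symm_apply])))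
    · exact .inr (.inr (.inl (e.injective (by rw [hy, map_mul, MulEquiv.apply_symm_apply, hap]))))
    · exact .inr (.inr (.inr (e.injective (by
        rw [hy, map_mul, MulEquiv.apply_symm_apply, hap, hap]))))
  · refine e.injective ?_
    rw [map_pow, map_pow, h.sq, map_one]
  · refine e.injective ?_
    rw [map_pow, map_commutatorElement, h.commutator, map_one]
  · obtain ⟨x, hx⟩ := h.noncomm
    refine ⟨e.symm x, fun hc => hx ?_⟩
    have := hc.map e
    rwa [← hap, MulEquiv.apply_symm_apply] at this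

theorem eq_one_of_isCyclic {Q : Type*} [Group Q] [Finite Q] [IsCyclic Q] (hQ : IsPGroup 2 Q)
    {σ : MulAut Q} (hσ : Odd (orderOf σ)) : σ = 1 := by
  obtain ⟨n, hn⟩ := hQ.exists_card_eq
  refine orderOf_eq_one_iff.1 (Nat.eq_one_of_dvd_coprimes (a := 2 ^ n) ?_ ?_ (dvd_refl _))
  · exact (Nat.coprime_two_left.2 hσ).pow_left n
  · have h : orderOf σ ∣ Nat.card (MulAut Q) := orderOf_dvd_natCard σ
    rw [IsCyclic.card_mulAut, hn] at h
    refine h.trans ?_
    rcases n with _ | n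
    · simp
    · rw [Nat.totient_prime_pow Nat.prime_two n.succ_pos]
      simp only [Nat.succ_sub_one]
      simpa using pow_dvd_pow 2 n.le_succ

/-- A nontrivial automorphism of odd order lives on a quaternion group of order eight, and the
automorphisms of odd order commuting with it are its powers. -/
theorem isQEightAct_of_unique {Q : Type*} [Group Q] [Finite Q] (hQ : IsPGroup 2 Q)
    (hu : ∀ a b : Q, orderOf a = 2 → orderOf b = 2 → a = b) {σ : MulAut Q}
    (hσ : Odd (orderOf σ)) (hne : σ ≠ 1) :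
    IsQEightAct σ ∧ ∀ τ : MulAut Q, Odd (orderOf τ) → Commute σ τ →
      τ ∈ Subgroup.zpowers σ := by
  rcases TwoRankInter.isCyclic_or_quaternion_of_unique hQ hu with hc | ⟨n, ⟨e⟩⟩
  · exact absurd (eq_one_of_isCyclic hQ hσ) hne
  set σ' := MulAut.congr e σ with hσ'
  have hord : ∀ τ : MulAut Q, orderOf (MulAut.congr e τ) = orderOf τ := fun τ =>
    (MulAut.congr e).orderOf_eq τ
  have hne' : σ' ≠ 1 := fun h => hne ((MulAut.congr e).injective (by rw [← hσ', h, map_one]))
  match n, e, σ', hσ', hne' with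
  | 0, e, _, _, _ =>
    haveI : IsCyclic (QuaternionGroup (2 ^ 0)) := QuaternionGroup.quaternionGroup_one_isCyclic
    haveI : IsCyclic Q := e.isCyclic.2 inferInstance
    exact absurd (eq_one_of_isCyclic hQ hσ) hne
  | n + 2, e, σ', hσ', hne' =>
    refine absurd (Fusion87.QuatSL2.eq_one_of_odd_aut (k := n + 2) (by omega) σ' ?_) hne'
    rw [hσ', hord]
    exact Nat.coprime_two_right.2 hσ
  | 1, e, σ', hσ', hne' =>
    have hthree : ∀ τ : MulAut Q, Odd (orderOf τ) → (MulAut.congr e τ) ^ 3 = 1 := by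
      intro τ hτ
      rw [← orderOf_dvd_iff_pow_eq_one, hord]
      have h12 : orderOf τ ∣ 4 * 3 := by
        rw [← hord, orderOf_dvd_iff_pow_eq_one]
        exact Zass25.pow_twelve _
      refine Nat.Coprime.dvd_of_dvd_mul_left ?_ h12
      exact ((Nat.coprime_two_right.2 hτ).pow_right 2 :)
    have h3 : σ' ^ 3 = 1 := by rw [hσ']; exact hthree σ hσ
    refine ⟨IsQEightAct.of_equiv e (by rw [← hσ']; exact isQEightAct_quaternion σ' h3 hne'), ?_⟩
    intro τ hτ hc
    set τ' := MulAut.congr e τ with hτ'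
    have hc' : Commute σ' τ' := by rw [hσ', hτ']; exact hc.map (MulAut.congr e).toMonoidHom
    have hf : ∀ x, σ' (τ' x) = τ' (σ' x) := fun x => DFunLike.congr_fun hc'.eq x
    have h := Zass25.commute_three _ (Zass25.qPair_mem σ') ⟨by
        show (Zass25.qMap (σ' (a 1)) (σ' (xa 0)))^[3] (a 1) = a 1
        rw [← Zass25.coe_pow_iterate, h3]; rfl, by
        show (Zass25.qMap (σ' (a 1)) (σ' (xa 0)))^[3] (xa 0) = xa 0
        rw [← Zass25.coe_pow_iterate, h3]; rfl⟩ (fun e' => hne' (Zass25.qPair_injective e'))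
      _ (Zass25.qPair_mem τ') (by
        simp only [Zass25.qPair, ← Zass25.apply_eq_qMap]
        exact ⟨hf _, hf _⟩)
    rcases h with h | h | h
    · have : τ' = 1 := Zass25.qPair_injective h
      rw [(MulAut.congr e).injective (a₁ := τ) (a₂ := 1) (by rw [← hτ', this, map_one])]
      exact one_mem _
    · have : τ' = σ' := Zass25.qPair_injective h
      rw [(MulAut.congr e).injective (a₁ := τ) (a₂ := σ) (by rw [← hτ', this, hσ'])]
      exact Subgroup.mem_zpowers σ
    · have : τ' = σ' ^ 2 := Zass25.qPair_injective (h.trans (by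
        simp only [Zass25.qPair, ← Zass25.apply_eq_qMap, sq, MulAut.mul_apply]))
      rw [(MulAut.congr e).injective (a₁ := τ) (a₂ := σ ^ 2) (by rw [← hτ', this, map_pow, hσ'])]
      exact pow_mem (Subgroup.mem_zpowers σ) 2

end Cfsg.Agent.Lib.UniqueInvFix
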