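import Cfsg.Agent.Lib.UniqueInvFix.Local
import Cfsg.Agent.Lib.Coprime.Cocyclic
import Cfsg.Agent.Lib.LargeES.Heisenberg

/-!
A noncyclic abelian group of odd prime power order acting on a 2-group such that every nontrivial
element fixes at most one involution.
-/

set_option autoImplicit false
set_option linter.style.haveILetI false

namespace Cfsg.Agent.Lib.UniqueInvFix

open Subgroup
open scoped commutatorElement

variable {W : Type*} [Group W]

/-- The action on an invariant subgroup. -/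
def resAct (E : Subgroup (MulAut W)) (H : Subgroup W) (hH : ∀ f ∈ E, ∀ x ∈ H, f x ∈ H) :
    E →* MulAut H where
  toFun f :=
    { toFun := fun n => ⟨(f : MulAut W) n, hH _ f.2 n n.2⟩
      invFun := fun n => ⟨((f : MulAut W))⁻¹ n, hH _ (inv_mem f.2) n n.2⟩
      left_inv := fun n => Subtype.ext ((f : MulAut W).symm_apply_apply (n : W))
      right_inv := fun n => Subtype.ext ((f : MulAut W).apply_symm_apply (n : W))
      map_mul' := fun x y => Subtype.ext (map_mul (f : MulAut W) (x : W) y) }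
  map_one' := by ext n; rfl
  map_mul' f g := by ext n; rfl

@[simp] theorem coe_resAct_apply (E : Subgroup (MulAut W)) (H : Subgroup W)
    (hH : ∀ f ∈ E, ∀ x ∈ H, f x ∈ H) (f : E) (x : H) :
    ((resAct E H hH f x : H) : W) = (f : MulAut W) x := rfl

theorem commutator_mul_central {a b y : W} (hb : ⁅b, y⁆ ∈ center W) :
    ⁅a * b, y⁆ = ⁅b, y⁆ * ⁅a, y⁆ := by
  have e1 : ⁅a * b, y⁆ = a * ⁅b, y⁆ * a⁻¹ * ⁅a, y⁆ := by simp only [commutatorElement_def]; group
  rw [e1, mem_center_iff.1 hb a, mul_inv_cancel_right]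

theorem card_sup_mul_card_inf [Finite W] {A B : Subgroup W} (hB : B ≤ normalizer (A : Set W)) :
    Nat.card ↥(A ⊔ B) * Nat.card ↥(A ⊓ B) = Nat.card A * Nat.card B := by
  have : (A.subgroupOf (A ⊔ B)).Normal :=
    normal_subgroupOf_of_le_normalizer (sup_le Subgroup.le_normalizer hB)
  have e : A.relIndex (A ⊔ B) = A.relIndex B := by
    rw [← relIndex_subgroupOf (le_refl (A ⊔ B)), subgroupOf_sup le_sup_left le_sup_right,
      relIndex_sup_left, relIndex_subgroupOf le_sup_right]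
  have h1 := relIndex_mul_relIndex ⊥ A (A ⊔ B) bot_le le_sup_left
  have h2 := relIndex_mul_relIndex ⊥ (A ⊓ B) B bot_le inf_le_right
  rw [inf_relIndex_right, ← e] at h2
  simp only [relIndex_bot_left] at h1 h2
  rw [← h1, ← h2]
  ring

theorem main [Finite W] (hW : IsPGroup 2 W) {p : ℕ} [Fact p.Prime] (hp : p ≠ 2)
    (E : Subgroup (MulAut W)) (hE : IsPGroup p ↥E) (hab : IsMulCommutative ↥E)
    (hnc : ¬ IsCyclic ↥E)
    (hfix : ∀ e ∈ E, e ≠ 1 → ∀ x y : W, orderOf x = 2 → orderOf y = 2 →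
      e x = x → e y = y → x = y) :
    Nat.card ↥E = 9 ∧ Cfsg.IsExtraspecial 2 W ∧
      (Nat.card W = 2 ^ 5 ∨ Nat.card W = 2 ^ 7 ∨ Nat.card W = 2 ^ 9) ∧
      {x : W | ∀ e ∈ E, e x = x} = (Subgroup.center W : Set W) := by
  classical
  haveI : Fact (Nat.Prime 2) := ⟨Nat.prime_two⟩
  have hpP : p.Prime := Fact.out
  letI : CommGroup E := { (inferInstance : Group E) with
    mul_comm := fun a b => hab.is_comm.comm a b }
  let C : MulAut W → Subgroup W := fun e => Coprime.fixedBy e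
  have hCmem : ∀ {e : MulAut W} {x : W}, x ∈ C e ↔ e x = x := fun {e x} => Iff.rfl
  have hcommE : ∀ e ∈ E, ∀ f ∈ E, e * f = f * e := fun e he f hf =>
    congrArg Subtype.val (mul_comm (⟨e, he⟩ : E) ⟨f, hf⟩)
  have hCinv : ∀ e ∈ E, ∀ f ∈ E, ∀ x ∈ C e, f x ∈ C e := fun e he f hf x hx => by
    show e (f x) = f x
    rw [← MulAut.mul_apply, hcommE e he f hf, MulAut.mul_apply, hCmem.1 hx]
  have hEodd : ∀ f : E, Odd (orderOf f) := fun f => by
    obtain ⟨k, hk⟩ := hE f
    exact Odd.of_dvd_nat (hpP.odd_of_ne_two hp).pow (orderOf_dvd_of_pow_eq_one hk)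
  obtain ⟨a, ha⟩ := hE.exists_card_eq
  have hgen : ∀ (H : Subgroup W), (∀ f ∈ E, ∀ x ∈ H, f x ∈ H) → ∀ L : Subgroup W,
      (∀ e ∈ E, e ≠ 1 → ∀ x ∈ H, e x = x → x ∈ L) → H ≤ L := by
    intro H hH L hL
    obtain ⟨b, hb⟩ := (hW.to_subgroup H).exists_card_eq
    have hcop : (Nat.card E).Coprime (Nat.card H) := by
      rw [ha, hb]
      exact Nat.Coprime.pow a b ((Nat.coprime_primes hpP Nat.prime_two).2 hp)
    have h := Coprime.eq_top_of_forall_fixedBy (resAct E H hH) hnc hcop (L.subgroupOf H)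
      (fun e he x hx => hL e e.2 (fun h => he (Subtype.ext h)) x x.2 (congrArg Subtype.val hx))
    intro x hx
    exact (show (⟨x, hx⟩ : H) ∈ L.subgroupOf H by rw [h]; exact mem_top _)
  -- the involution
  obtain ⟨e₀, he₀, he₀1, hne₀⟩ : ∃ e ∈ E, e ≠ 1 ∧ ∃ x ∈ C e, x ≠ 1 := by
    by_contra hcon
    push Not at hcon
    refine hnc ?_
    have hbot : (⊤ : Subgroup W) ≤ ⊥ := hgen ⊤ (fun _ _ _ _ => mem_top _) ⊥
      (fun e he he1 x _ hx => mem_bot.2 (hcon e he he1 x hx))
    haveI : Subsingleton E := ⟨fun f g => Subtype.ext (MulEquiv.ext fun x => by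
      rw [mem_bot.1 (hbot (mem_top x)), map_one, map_one])⟩
    exact isCyclic_of_subsingleton
  obtain ⟨z, hzC, hz2⟩ : ∃ z ∈ C e₀, orderOf z = 2 := by
    obtain ⟨x, hx, hx1⟩ := hne₀
    haveI : Nontrivial (C e₀) := ⟨⟨x, hx⟩, 1, fun h => hx1 (congrArg Subtype.val h)⟩
    obtain ⟨n, hn0, hn⟩ := (hW.to_subgroup (C e₀)).nontrivial_iff_card.mp inferInstance
    obtain ⟨y, hy⟩ := exists_prime_orderOf_dvd_card' (G := C e₀) 2
      (by rw [hn]; exact dvd_pow_self 2 hn0.ne')
    exact ⟨y, y.2, by rw [Subgroup.orderOf_coe]; exact hy⟩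
  have hzfix : ∀ f ∈ E, f z = z := fun f hf =>
    hfix e₀ he₀ he₀1 (f z) z (by rw [MulEquiv.orderOf_eq, hz2]) hz2 (hCinv e₀ he₀ f hf z hzC) hzC
  have hzz : z ^ 2 = 1 := hz2 ▸ pow_orderOf_eq_one z
  have hz1 : z ≠ 1 := fun h => by rw [h, orderOf_one] at hz2; exact absurd hz2 (by norm_num)
  have hsq2 : ∀ e ∈ E, e ≠ 1 → ∀ x ∈ C e, x ^ 2 = 1 → x = 1 ∨ x = z := by
    intro e he he1 x hx hx2
    rcases eq_or_ne x 1 with h | h
    · exact .inl h
    · exact .inr (hfix e he he1 x z (orderOf_eq_prime hx2 h) hz2 hx (hzfix e he))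
  set Z : Subgroup W := zpowers z with hZdef
  have hZmem : ∀ x, x ∈ Z ↔ x = 1 ∨ x = z := by
    intro x
    constructor
    · intro hx
      obtain ⟨k, rfl⟩ := mem_zpowers_iff.1 hx
      rcases Int.even_or_odd k with ⟨j, rfl⟩ | ⟨j, rfl⟩
      · left; rw [← two_mul, zpow_mul, zpow_two, ← sq, hzz, one_zpow]
      · right; rw [zpow_add_one, zpow_mul, zpow_two, ← sq, hzz, one_zpow, one_mul]
    · rintro (h | h) <;> rw [h]
      · exact one_mem _
      · exact mem_zpowers z
  have hZC : ∀ e ∈ E, ∀ x ∈ Z, x ∈ C e := fun e he x hx => by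
    rcases (hZmem x).1 hx with h | h <;> rw [h]
    · exact one_mem _
    · exact hzfix e he
  have hsqZ : ∀ e ∈ E, e ≠ 1 → ∀ x ∈ C e, x ^ 2 = 1 → x ∈ Z := fun e he he1 x hx h =>
    (hZmem x).2 (hsq2 e he he1 x hx h)
  have hzcen : z ∈ center W := by
    refine mem_center_iff.2 fun w => ?_
    have : w ∈ centralizer ({z} : Set W) := hgen ⊤ (fun _ _ _ _ => mem_top _) _
      (fun e he he1 x _ hx => mem_centralizer_singleton_iff.2 ?_) (mem_top w)
    · exact mem_centralizer_singleton_iff.1 this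
    · have h2 : orderOf (x * z * x⁻¹) = 2 := by
        rw [← MulAut.conj_apply, MulEquiv.orderOf_eq, hz2]
      have := hfix e he he1 _ z h2 hz2
        (by rw [map_mul, map_mul, map_inv, hx, hzfix e he]) (hzfix e he)
      exact mul_inv_eq_iff_eq_mul.1 this
  have hZcen : Z ≤ center W := zpowers_le.2 hzcen
  -- the actions on the fixed points
  have hu : ∀ e ∈ E, e ≠ 1 → ∀ x y : C e, orderOf x = 2 → orderOf y = 2 → x = y :=
    fun e he he1 x y hx hy => Subtype.ext (hfix e he he1 x y (by rwa [Subgroup.orderOf_coe])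
      (by rwa [Subgroup.orderOf_coe]) x.2 y.2)
  let R : ∀ e ∈ E, E →* MulAut (C e) := fun e he => resAct E (C e) (hCinv e he)
  have hRodd : ∀ e (he : e ∈ E) (f : E), Odd (orderOf (R e he f)) := fun e he f =>
    Odd.of_dvd_nat (hEodd f) (orderOf_map_dvd _ f)
  have hloc : ∀ e (he : e ∈ E), e ≠ 1 → ∀ f : E, R e he f ≠ 1 →
      IsQEightAct (R e he f) ∧ ∀ g : E, R e he g ∈ zpowers (R e he f) := by
    intro e he he1 f hf
    obtain ⟨h1, h2⟩ := isQEightAct_of_unique (hW.to_subgroup (C e)) (hu e he he1) (hRodd e he f) hf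
    exact ⟨h1, fun g => h2 _ (hRodd e he g) ((Commute.all f g).map (R e he))⟩
  -- common fixed points
  obtain ⟨e₁, he₁, he₁1, f₁, hf₁⟩ : ∃ e, ∃ he : e ∈ E, e ≠ 1 ∧ ∃ f : E, R e he f ≠ 1 := by
    by_contra hcon
    push Not at hcon
    refine hnc ?_
    haveI : Subsingleton E := by
      suffices h : ∀ f : E, f = 1 from ⟨fun f g => (h f).trans (h g).symm⟩
      intro f
      refine Subtype.ext (MulEquiv.ext fun w => ?_)
      refine hgen ⊤ (fun _ _ _ _ => mem_top _) (C f)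
        (fun e he he1 x _ hx => ?_) (mem_top w)
      have := DFunLike.congr_fun (hcon e he he1 f) ⟨x, hx⟩
      exact congrArg Subtype.val this
    exact isCyclic_of_subsingleton
  obtain ⟨hq₁, -⟩ := hloc e₁ he₁ he₁1 f₁ hf₁
  have hCE : ∀ x : W, (∀ f ∈ E, f x = x) → x ∈ Z := fun x hx =>
    hsqZ e₁ he₁ he₁1 x (hx e₁ he₁)
      (congrArg Subtype.val (hq₁.fix ⟨x, hx e₁ he₁⟩ (Subtype.ext (hx f₁ f₁.2))))
  have hmove : ∀ e (he : e ∈ E), e ≠ 1 → ∀ x ∈ C e, x ∉ Z →
      ∃ f : E, R e he f ≠ 1 ∧ IsQEightAct (R e he f) := by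
    intro e he he1 x hx hxZ
    by_contra hcon
    push Not at hcon
    refine hxZ (hCE x fun f hf => ?_)
    by_cases h : R e he ⟨f, hf⟩ = 1
    · exact congrArg Subtype.val (DFunLike.congr_fun h ⟨x, hx⟩)
    · exact absurd (hloc e he he1 _ h).1 (hcon _ h)
  have hsame : ∀ e ∈ E, e ≠ 1 → ∀ e' ∈ E, e' ≠ 1 → ∀ x ∈ C e, x ∈ C e' → x ∉ Z → C e = C e' := by
    have key : ∀ e ∈ E, e ≠ 1 → ∀ e' ∈ E, ∀ x ∈ C e, x ∈ C e' → x ∉ Z → C e ≤ C e' := by
      intro e he he1 e' he' x hx hx' hxZ y hy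
      have h1 : R e he ⟨e', he'⟩ = 1 := by
        by_contra h
        refine hxZ (hsqZ e he he1 x hx ?_)
        exact congrArg Subtype.val ((hloc e he he1 _ h).1.fix ⟨x, hx⟩ (Subtype.ext hx'))
      exact congrArg Subtype.val (DFunLike.congr_fun h1 ⟨y, hy⟩)
    intro e he he1 e' he' he'1 x hx hx' hxZ
    exact le_antisymm (key e he he1 e' he' x hx hx' hxZ) (key e' he' he'1 e he x hx' hx hxZ)
  -- elements of the second centre commute with the other fixed subgroups
  have hZn : Z.Normal := ⟨fun x hx g => by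
    rwa [mem_center_iff.1 (hZcen hx) g, mul_inv_cancel_right]⟩
  have hcross : ∀ e ∈ E, e ≠ 1 → ∀ e' ∈ E, e' ≠ 1 → ∀ x ∈ C e, (∀ w, ⁅x, w⁆ ∈ Z) →
      ∀ y ∈ C e', C e ≠ C e' → Commute x y := by
    intro e he he1 e' he' he'1 x hx hxM y hy hne
    by_cases hxZ : x ∈ Z
    · exact (mem_center_iff.1 (hZcen hxZ) y).symm
    have hτ : R e he ⟨e', he'⟩ ≠ 1 := fun h =>
      hne (hsame e he he1 e' he' he'1 x hx
        (hCmem.2 (by simpa [R] using congrArg Subtype.val (DFunLike.congr_fun h (⟨x, hx⟩ : C e)))) hxZ)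
    obtain ⟨hq, -⟩ := hloc e he he1 _ hτ
    have horb := hq.orbit ⟨x, hx⟩
    have hcmt := mem_center_iff.1 horb
    have hprod : x * e' x * e' (e' x) ∈ Z := hsqZ e he he1 _
      (mul_mem (mul_mem hx (hCinv e he e' he' x hx))
        (hCinv e he e' he' _ (hCinv e he e' he' x hx)))
      (congrArg Subtype.val (hq.comm _ (hcmt _).symm))
    have hc : ∀ u ∈ Z, e' u = u := fun u hu => hZC e' he' u hu
    have h1 : ⁅e' x, y⁆ = ⁅x, y⁆ := by
      conv_lhs => rw [← hCmem.1 hy]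
      rw [← map_commutatorElement, hc _ (hxM y)]
    have h2 : ⁅e' (e' x), y⁆ = ⁅x, y⁆ := by
      conv_lhs => rw [← hCmem.1 hy]
      rw [← map_commutatorElement, h1, hc _ (hxM y)]
    have h3 : ⁅x * e' x * e' (e' x), y⁆ = ⁅x, y⁆ * (⁅x, y⁆ * ⁅x, y⁆) := by
      rw [commutator_mul_central (by rw [h2]; exact hZcen (hxM y)),
        commutator_mul_central (by rw [h1]; exact hZcen (hxM y)), h1, h2]
    have h4 : ⁅x * e' x * e' (e' x), y⁆ = 1 :=
      commutatorElement_eq_one_iff_commute.2 (mem_center_iff.1 (hZcen hprod) y).symm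
    rw [h4] at h3
    rcases (hZmem _).1 (hxM y) with h | h
    · exact commutatorElement_eq_one_iff_commute.1 h
    · rw [h, ← sq, hzz, mul_one] at h3
      exact absurd h3.symm hz1
  -- `[W, W] ≤ Z`
  have hZsub : ∀ f ∈ E, ∀ x ∈ Z, f x ∈ Z := fun f hf x hx => by
    rw [hCmem.1 (hZC f hf x hx)]; exact hx
  let M : Subgroup W := (center (W ⧸ Z)).comap (QuotientGroup.mk' Z)
  have hquot : ∀ (N : Subgroup W) [N.Normal] (x : W),
      x ∈ (center (W ⧸ N)).comap (QuotientGroup.mk' N) ↔ ∀ w, ⁅x, w⁆ ∈ N := by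
    intro N _ x
    rw [mem_comap, mem_center_iff]
    constructor
    · intro h w
      rw [← QuotientGroup.eq_one_iff, ← QuotientGroup.mk'_apply, map_commutatorElement,
        commutatorElement_eq_one_iff_commute]
      exact (h _).symm
    · intro h q
      obtain ⟨w, rfl⟩ := QuotientGroup.mk'_surjective N q
      have := (QuotientGroup.eq_one_iff _).2 (h w)
      rw [← QuotientGroup.mk'_apply, map_commutatorElement,
        commutatorElement_eq_one_iff_commute] at this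
      exact this.symm.eq
  have hM : ∀ x, x ∈ M ↔ ∀ w, ⁅x, w⁆ ∈ Z := hquot Z
  haveI hMn : M.Normal := inferInstanceAs (Subgroup.Normal (comap _ _))
  have hMinv : ∀ f ∈ E, ∀ x ∈ M, f x ∈ M := fun f hf x hx => (hM _).2 fun w => by
    have := hZsub f hf _ ((hM x).1 hx (f⁻¹ w))
    rwa [map_commutatorElement, MulAut.apply_inv_self] at this
  have hZM : Z ≤ M := fun x hx => (hM x).2 fun w => by
    rw [commutatorElement_eq_one_iff_commute.2 (mem_center_iff.1 (hZcen hx) w).symm]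
    exact one_mem _
  have hswallow : ∀ e (he : e ∈ E), e ≠ 1 → ∀ x ∈ C e, x ∈ M → x ∉ Z → C e ≤ M := by
    intro e he he1 x hx hxM hxZ y hy
    obtain ⟨f, -, hq⟩ := hmove e he he1 x hx hxZ
    obtain ⟨c, hc, hy'⟩ := hq.cover ⟨x, hx⟩ ⟨y, hy⟩ (fun h =>
      hxZ (hsqZ e he he1 x hx (congrArg Subtype.val h)))
    have hcM : (c : W) ∈ M := hZM (hsqZ e he he1 c c.2 (congrArg Subtype.val hc))
    rcases hy' with h | h | h | h <;> (have h' := congrArg Subtype.val h; simp only at h'; rw [h'])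
    · exact hcM
    · exact mul_mem hcM hxM
    · exact mul_mem hcM (hMinv f f.2 x hxM)
    · exact mul_mem hcM (hMinv f f.2 _ (hMinv f f.2 x hxM))
  have hMtop : M = ⊤ := by
    by_contra hne
    haveI : Nontrivial (W ⧸ M) := QuotientGroup.nontrivial_iff.mpr hne
    haveI := (hW.to_quotient M).center_nontrivial
    obtain ⟨⟨q, hqc⟩, hq1⟩ := exists_ne (1 : center (W ⧸ M))
    obtain ⟨w₀, rfl⟩ := QuotientGroup.mk'_surjective M q
    refine hq1 (Subtype.ext ((QuotientGroup.eq_one_iff w₀).2 ?_))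
    refine hgen ((center (W ⧸ M)).comap (QuotientGroup.mk' M))
      (fun f hf x hx => (hquot M _).2 fun w => ?_) M (fun ej hej hej1 a ha hac => ?_)
      (mem_comap.2 hqc)
    · have := hMinv f hf _ ((hquot M x).1 hx (f⁻¹ w))
      rwa [map_commutatorElement, MulAut.apply_inv_self] at this
    by_contra haM
    have haZ : a ∉ Z := fun h => haM (hZM h)
    refine haM (mem_comap.2 (mem_center_iff.2 fun q => ?_))
    obtain ⟨w, rfl⟩ := QuotientGroup.mk'_surjective Z q
    have hw : w ∈ (centralizer {QuotientGroup.mk' Z a}).comap (QuotientGroup.mk' Z) := by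
      refine hgen ⊤ (fun _ _ _ _ => mem_top _) _ (fun ek hek hek1 b _ hb => ?_) (mem_top w)
      refine mem_comap.2 (mem_centralizer_singleton_iff.2 ?_)
      refine (commutatorElement_eq_one_iff_commute.1 ?_).eq.symm
      rw [← map_commutatorElement, QuotientGroup.mk'_apply, QuotientGroup.eq_one_iff]
      by_cases hbM : b ∈ M
      · rw [← commutatorElement_inv]
        exact inv_mem ((hM b).1 hbM a)
      by_cases hjk : C ej = C ek
      · obtain ⟨f, -, hq⟩ := hmove ej hej hej1 a hac haZ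
        refine hsqZ ej hej hej1 _ ?_ ?_
        · rw [commutatorElement_def]
          exact mul_mem (mul_mem (mul_mem hac (hjk ▸ hb)) (inv_mem hac)) (inv_mem (hjk ▸ hb))
        · exact congrArg Subtype.val (hq.commutator ⟨a, hac⟩ ⟨b, hjk ▸ hb⟩)
      have hcM : ⁅a, b⁆ ∈ M := (hquot M a).1 ha b
      have hcent : M ≤ centralizer {⁅a, b⁆} := by
        refine hgen M hMinv _ (fun e he he1 x hxM hx => mem_centralizer_singleton_iff.2 ?_)
        by_cases hxZ : x ∈ Z
        · exact (mem_center_iff.1 (hZcen hxZ) _).symm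
        have h1 : C e ≠ C ej := fun h =>
          haM (hswallow e he he1 x hx hxM hxZ (h ▸ hac))
        have h2 : C e ≠ C ek := fun h =>
          hbM (hswallow e he he1 x hx hxM hxZ (h ▸ hb))
        have c1 := hcross e he he1 ej hej hej1 x hx ((hM x).1 hxM) a hac h1
        have c2 := hcross e he he1 ek hek hek1 x hx ((hM x).1 hxM) b hb h2
        rw [commutatorElement_def]
        exact (((c1.mul_right c2).mul_right c1.inv_right).mul_right c2.inv_right).eq
      refine hgen (M ⊓ centralizer (M : Set W)) ?_ Z ?_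
        ⟨hcM, mem_centralizer_iff.2 fun m hm => mem_centralizer_singleton_iff.1 (hcent hm)⟩
      · intro f hf x hx
        refine ⟨hMinv f hf x hx.1, mem_centralizer_iff.2 fun m hm => ?_⟩
        have := congrArg f (mem_centralizer_iff.1 hx.2 (f⁻¹ m) (hMinv _ (inv_mem hf) m hm))
        rwa [map_mul, map_mul, MulAut.apply_inv_self] at this
      · intro e he he1 x hx hxe
        by_contra hxZ
        obtain ⟨f, -, hq⟩ := hmove e he he1 x hxe hxZ
        refine hxZ (hsqZ e he he1 x hxe (congrArg Subtype.val (hq.comm ⟨x, hxe⟩ ?_)))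
        exact Subtype.ext (mem_centralizer_iff.1 hx.2 _ (hMinv f f.2 x hx.1)).symm
    exact mem_centralizer_singleton_iff.1 (mem_comap.1 hw)
  have hcomm : ∀ x w, ⁅x, w⁆ ∈ Z := fun x => (hM x).1 (hMtop ▸ mem_top x)
  have hdiff : ∀ e ∈ E, e ≠ 1 → ∀ e' ∈ E, e' ≠ 1 → C e ≠ C e' →
      ∀ x ∈ C e, ∀ y ∈ C e', Commute x y :=
    fun e he he1 e' he' he'1 hne x hx y hy => hcross e he he1 e' he' he'1 x hx (hcomm x) y hy hne
  have hcenter : center W = Z := by
    refine le_antisymm (hgen _ (fun f hf x hx => ?_) Z (fun e he he1 x hx hxe => ?_)) hZcen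
    · refine mem_center_iff.2 fun w => ?_
      have := congrArg f (mem_center_iff.1 hx (f⁻¹ w))
      rwa [map_mul, map_mul, MulAut.apply_inv_self] at this
    · by_contra hxZ
      obtain ⟨f, -, hq⟩ := hmove e he he1 x hxe hxZ
      exact hxZ (hsqZ e he he1 x hxe (congrArg Subtype.val
        (hq.comm ⟨x, hxe⟩ (Subtype.ext (mem_center_iff.1 hx _).symm))))
  -- a second quaternion group, and `|E| = 9`
  obtain ⟨x₁, hx₁⟩ := hq₁.noncomm
  have hx₁Z : (x₁ : W) ∉ Z := fun h =>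
    hx₁ (Subtype.ext (mem_center_iff.1 (hZcen h) _).symm)
  obtain ⟨e₂, he₂, he₂1, x₂, hx₂, hx₂Z, h12⟩ :
      ∃ e ∈ E, e ≠ 1 ∧ ∃ x ∈ C e, x ∉ Z ∧ C e₁ ≠ C e := by
    by_contra hcon
    push Not at hcon
    refine he₁1 (MulEquiv.ext fun w => ?_)
    refine hgen ⊤ (fun _ _ _ _ => mem_top _) (C e₁) (fun e he he1 x _ hx => ?_) (mem_top w)
    by_cases hxZ : x ∈ Z
    · exact hZC e₁ he₁ x hxZ
    · rw [hcon e he he1 x hx hxZ]; exact hx
  obtain ⟨f₂, hf₂, hq₂⟩ := hmove e₂ he₂ he₂1 x₂ hx₂ hx₂Z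
  have hidx : ∀ e (he : e ∈ E), e ≠ 1 → ∀ f : E, R e he f ≠ 1 → (R e he).ker.index ≤ 3 := by
    intro e he he1 f hf
    obtain ⟨hq, hall⟩ := hloc e he he1 f hf
    rw [index_ker]
    refine (card_le_of_le (show (R e he).range ≤ zpowers (R e he f) from ?_)).trans ?_
    · rintro _ ⟨g, rfl⟩; exact hall g
    · rw [Nat.card_zpowers]; exact orderOf_le_of_pow_eq_one (by norm_num) hq.cube
  have hker : (R e₁ he₁).ker ⊓ (R e₂ he₂).ker = ⊥ := by
    refine (eq_bot_iff_forall _).2 fun k hk => ?_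
    by_contra hk1
    have hk1' : (k : MulAut W) ≠ 1 := fun h => hk1 (Subtype.ext h)
    refine h12 ((hsame e₁ he₁ he₁1 k k.2 hk1' x₁ x₁.2 ?_ hx₁Z).trans
      (hsame e₂ he₂ he₂1 k k.2 hk1' x₂ hx₂ ?_ hx₂Z).symm)
    · exact congrArg Subtype.val (DFunLike.congr_fun (MonoidHom.mem_ker.1 hk.1) x₁)
    · exact congrArg Subtype.val (DFunLike.congr_fun (MonoidHom.mem_ker.1 hk.2) ⟨x₂, hx₂⟩)
  have hle9 : Nat.card E ≤ 9 := by
    have := index_inf_le (H := (R e₁ he₁).ker) (K := (R e₂ he₂).ker)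
    rw [hker, index_bot] at this
    exact this.trans (Nat.mul_le_mul (hidx e₁ he₁ he₁1 f₁ hf₁) (hidx e₂ he₂ he₂1 f₂ hf₂))
  have hp3 : p = 3 := by
    obtain ⟨k, hk⟩ := hE f₁
    have h1 : (R e₁ he₁ f₁) ^ p ^ k = 1 := by rw [← map_pow, hk, map_one]
    have h3 : orderOf (R e₁ he₁ f₁) = 3 := orderOf_eq_prime hq₁.cube hf₁
    exact ((Nat.prime_dvd_prime_iff_eq Nat.prime_three hpP).1
      (Nat.prime_three.dvd_of_dvd_pow (h3 ▸ orderOf_dvd_of_pow_eq_one h1))).symm
  subst hp3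
  have ha2 : a = 2 := by
    rcases lt_trichotomy a 2 with h | h | h
    · interval_cases a
      · haveI : Subsingleton E := (Nat.card_eq_one_iff_unique.1 (by simpa using ha)).1
        exact absurd isCyclic_of_subsingleton hnc
      · exact absurd (isCyclic_of_prime_card (by simpa using ha)) hnc
    · exact h
    · have := Nat.pow_le_pow_right (show 3 > 0 by norm_num) h
      omega
  have h9 : Nat.card E = 9 := by rw [ha, ha2]; norm_num
  -- extraspecial
  have hsq : ∀ x : W, x ^ 2 ∈ Z := by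
    intro x
    let T : Subgroup W :=
      { carrier := {u | u ^ 2 ∈ Z}
        one_mem' := by simp
        mul_mem' := by
          intro u v hu hv
          show (u * v) ^ 2 ∈ Z
          have e : (u * v) ^ 2 = u ^ 2 * (u⁻¹ * ⁅v, u⁆ * u) * v ^ 2 := by
            simp only [commutatorElement_def, sq]; group
          rw [e, mem_center_iff.1 (hZcen (hcomm v u)) u⁻¹, inv_mul_cancel_right]
          exact mul_mem (mul_mem hu (hcomm v u)) hv
        inv_mem' := by intro u hu; show u⁻¹ ^ 2 ∈ Z; rw [inv_pow]; exact inv_mem hu }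
    refine hgen ⊤ (fun _ _ _ _ => mem_top _) T (fun e he he1 u _ hu => ?_) (mem_top x)
    by_cases huZ : u ∈ Z
    · exact pow_mem huZ 2
    · obtain ⟨f, -, hq⟩ := hmove e he he1 u hu huZ
      exact hsqZ e he he1 _ (pow_mem hu 2) (congrArg Subtype.val (hq.sq ⟨u, hu⟩))
  have hes : Cfsg.IsExtraspecial 2 W :=
    LargeES.Heisenberg.isExtraspecial_of_props hW hz1 hzcen
      (fun x hx => (hZmem x).1 (hcenter ▸ hx)) (fun x => hZcen (hsq x))
      (fun x y => by have := hcomm x y; rw [commutatorElement_def] at this; exact hZcen this)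
      (x := (x₁ : W)) (y := (f₁ : MulAut W) x₁) (fun h => hx₁ (Subtype.ext h))
  -- the order
  haveI : Fintype E := Fintype.ofFinite E
  let S : Finset E := Finset.univ.filter fun e => e ≠ 1 ∧ ∃ x ∈ C e, x ∉ Z
  let 𝒬 : Finset (Subgroup W) := S.image fun e : E => C e
  have h𝒬 : ∀ Q ∈ 𝒬, ∃ e ∈ E, e ≠ 1 ∧ (∃ x ∈ C e, x ∉ Z) ∧ Q = C e := by
    intro Q hQ
    obtain ⟨e, he, rfl⟩ := Finset.mem_image.1 hQ
    obtain ⟨-, he1, hx⟩ := Finset.mem_filter.1 he
    exact ⟨e, e.2, fun h => he1 (Subtype.ext h), hx, rfl⟩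
  have hin : ∀ e ∈ E, e ≠ 1 → ∀ x ∈ C e, x ∉ Z → C e ∈ 𝒬 := fun e he he1 x hx hxZ =>
    Finset.mem_image.2 ⟨⟨e, he⟩, Finset.mem_filter.2
      ⟨Finset.mem_univ _, fun h => he1 (congrArg Subtype.val h), x, hx, hxZ⟩, rfl⟩
  have hge2 : 2 ≤ 𝒬.card := Finset.one_lt_card.2
    ⟨_, hin e₁ he₁ he₁1 _ x₁.2 hx₁Z, _, hin e₂ he₂ he₂1 _ hx₂ hx₂Z, h12⟩
  have hcube : ∀ e : E, e ^ 3 = 1 := by
    intro e
    by_contra he
    refine hnc (isCyclic_of_orderOf_eq_card e ?_)
    have hd : orderOf e ∣ 3 ^ 2 := by rw [← ha2, ← ha]; exact orderOf_dvd_natCard e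
    obtain ⟨i, hi, hi'⟩ := (Nat.dvd_prime_pow Nat.prime_three).1 hd
    interval_cases i
    · exact absurd (orderOf_dvd_iff_pow_eq_one.1 (by rw [hi']; norm_num)) he
    · exact absurd (orderOf_dvd_iff_pow_eq_one.1 (by rw [hi']; norm_num)) he
    · rw [hi', h9]; norm_num
  have hle4 : 𝒬.card ≤ 4 := by
    have hS : S.card ≤ 8 := by
      have h1 : S ⊆ Finset.univ.erase (1 : E) := fun e he =>
        Finset.mem_erase.2 ⟨(Finset.mem_filter.1 he).2.1, Finset.mem_univ _⟩
      have h2 := Finset.card_le_card h1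
      rw [Finset.card_erase_of_mem (Finset.mem_univ _), Finset.card_univ,
        ← Nat.card_eq_fintype_card, h9] at h2
      exact h2
    have h := Finset.mul_card_image_le_card (f := fun e : E => C e) S 2 (fun Q hQ => by
      obtain ⟨e, he, rfl⟩ := Finset.mem_image.1 hQ
      obtain ⟨-, he1, x, hx, hxZ⟩ := Finset.mem_filter.1 he
      have he2 : e ^ 2 ≠ 1 := fun h => he1 (by
        have := hcube e; rw [pow_succ, h, one_mul] at this; exact this)
      have hxx : x ∈ C ((e ^ 2 : E) : MulAut W) := by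
        show ((e : MulAut W) ^ 2) x = x
        rw [sq, MulAut.mul_apply, hCmem.1 hx, hCmem.1 hx]
      have hsm := hsame e e.2 (fun h => he1 (Subtype.ext h)) _ (e ^ 2).2
        (fun h => he2 (Subtype.ext h)) x hx hxx hxZ
      exact Finset.one_lt_card.2 ⟨e, Finset.mem_filter.2 ⟨he, rfl⟩, e ^ 2,
        Finset.mem_filter.2 ⟨Finset.mem_filter.2 ⟨Finset.mem_univ _, he2, x, hxx, hxZ⟩, hsm.symm⟩,
        fun h => he1 (mul_eq_left.1 (by rw [← sq]; exact h.symm))⟩)
    change 2 * 𝒬.card ≤ S.card at h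
    omega
  have hZcard : Nat.card Z = 2 := by rw [hZdef, Nat.card_zpowers, hz2]
  have hprod : ∀ s : Finset (Subgroup W), s ⊆ 𝒬 →
      Nat.card ↥(Z ⊔ s.sup id) = 2 * 4 ^ s.card := by
    intro s
    induction s using Finset.induction_on with
    | empty => intro _; rw [Finset.sup_empty, sup_bot_eq, hZcard]; simp
    | insert Q s hQs ih =>
      intro hs
      obtain ⟨e, he, he1, ⟨x, hx, hxZ⟩, rfl⟩ := h𝒬 Q (hs (Finset.mem_insert_self _ _))
      have hcp : Z ⊔ s.sup id ≤ centralizer (C e : Set W) := by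
        refine sup_le (fun u hu => mem_centralizer_iff.2 fun v _ =>
          mem_center_iff.1 (hZcen hu) v) (Finset.sup_le fun T hT => ?_)
        obtain ⟨e', he', he'1, -, rfl⟩ := h𝒬 T (hs (Finset.mem_insert_of_mem hT))
        intro u hu
        exact mem_centralizer_iff.2 fun v hv =>
          (hdiff e he he1 e' he' he'1 (fun h => hQs (h ▸ hT)) v hv u hu).eq
      have hinf : (Z ⊔ s.sup id) ⊓ C e = Z := by
        refine le_antisymm (fun u hu => ?_) (le_inf le_sup_left fun u hu => hZC e he u hu)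
        obtain ⟨f, -, hq⟩ := hmove e he he1 x hx hxZ
        refine hsqZ e he he1 u hu.2 (congrArg Subtype.val (hq.comm ⟨u, hu.2⟩ ?_))
        exact Subtype.ext (mem_centralizer_iff.1 (hcp hu.1) _ (hCinv e he f f.2 u hu.2)).symm
      have h8 : Nat.card (C e) = 8 := by
        obtain ⟨f, -, hq⟩ := hmove e he he1 x hx hxZ
        exact hq.card
      have h := card_sup_mul_card_inf (A := Z ⊔ s.sup id) (B := C e)
        ((Subgroup.le_centralizer_iff.1 hcp).trans (Subgroup.centralizer_le_normalizer _))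
      rw [hinf, hZcard, h8, ih fun T hT => hs (Finset.mem_insert_of_mem hT)] at h
      rw [Finset.sup_insert, id, sup_comm (C e), ← sup_assoc, Finset.card_insert_of_notMem hQs,
        pow_succ]
      omega
  have hWtop : Z ⊔ 𝒬.sup id = ⊤ := by
    refine eq_top_iff.2 (hgen ⊤ (fun _ _ _ _ => mem_top _) _ fun e he he1 x _ hx => ?_)
    by_cases hxZ : x ∈ Z
    · exact mem_sup_left hxZ
    · exact mem_sup_right (Finset.le_sup (f := id) (hin e he he1 x hx hxZ) hx)
  have hcardW := hprod 𝒬 Finset.Subset.rfl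
  rw [hWtop, card_top] at hcardW
  refine ⟨h9, hes, ?_, ?_⟩
  · obtain h | h | h : 𝒬.card = 2 ∨ 𝒬.card = 3 ∨ 𝒬.card = 4 := by omega
    all_goals rw [h] at hcardW
    · left; rw [hcardW]; norm_num
    · right; left; rw [hcardW]; norm_num
    · right; right; rw [hcardW]; norm_num
  · ext x
    rw [SetLike.mem_coe, hcenter]
    exact ⟨hCE x, fun hx f hf => hZC f hf x hx⟩

end Cfsg.Agent.Lib.UniqueInvFix
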